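import Cfsg.Agent.Lib.PSLSqDegrees77.Degrees
import Cfsg.Agent.Lib.Chars.DefectZero

/-!
A perfect group with the order and the character degrees of `PSL₂(q)`, `q ≡ 1 (mod 4)`: the
centraliser of a `p`-element is a `p`-group.
-/

set_option autoImplicit false

namespace Cfsg.Agent.Lib.PSLSqDegrees77

open Cfsg.Agent.Lib

universe u

variable {G : Type u} [Group G] [Finite G]

theorem one_add_mul_ne_zero {D : ℕ} (hD : 1 < D) {S : ℂ} (hS : IsIntegral ℤ S) :
    1 + (D : ℂ) * S ≠ 0 := by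
  intro h
  have hD0 : (D : ℂ) ≠ 0 := by exact_mod_cast (show D ≠ 0 by omega)
  have hSval : S = algebraMap ℚ ℂ (-1 / (D : ℚ)) := by
    rw [eq_ratCast]
    push_cast
    field_simp
    linear_combination h
  rw [hSval, isIntegral_algebraMap_iff (algebraMap ℚ ℂ).injective] at hS
  obtain ⟨k, hk⟩ := IsIntegrallyClosed.isIntegral_iff.1 hS
  have hDq : (D : ℚ) ≠ 0 := by exact_mod_cast (show D ≠ 0 by omega)
  have hk' : (k : ℚ) * (D : ℚ) = -1 := by
    rw [show (k : ℚ) = -1 / (D : ℚ) by simpa using hk, div_mul_cancel₀ _ hDq]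
  have hk'' : k * (D : ℤ) = -1 := by exact_mod_cast hk'
  have : (D : ℤ) ∣ 1 := ⟨-k, by linear_combination hk''⟩
  have := Int.le_of_dvd one_pos this
  omega

/-- A character of defect zero at a prime dividing the order of `g` vanishes at `g`. -/
theorem apply_eq_zero (χ : Cfsg.IrrCharacter G) {r : ℕ} (hr : r.Prime)
    (hdvd : r ^ (Nat.card G).factorization r ∣ Cfsg.charDegree (χ : G → ℂ)) {g : G}
    (hg : r ∣ orderOf g) : (χ : G → ℂ) g = 0 := by
  obtain ⟨n, ρ, hρ, hχ⟩ := χ.2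
  have hn : Cfsg.charDegree (χ : G → ℂ) = n := by
    have h := (Chars.charDegree_spec χ).2
    conv_lhs at h => rw [← hχ, Representation.char_one, Module.finrank_fin_fun]
    exact_mod_cast h.symm
  rw [← hχ]
  haveI := hρ
  exact Chars.char_eq_zero_of_defect_zero ρ hr (n := (Nat.card G).factorization r)
    (Nat.ordProj_dvd _ _) (Nat.pow_succ_factorization_not_dvd Nat.card_pos.ne' hr)
    (by rwa [Module.finrank_fin_fun, ← hn]) g hg

/-- Only the trivial character is linear in a perfect group. -/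
theorem eq_trivialIrr (hperf : (commutator G).index = 1) (χ : Cfsg.IrrCharacter G)
    (h : (χ : G → ℂ) 1 = 1) : χ = Chars.trivialIrr G := by
  have hc : Nat.card {χ : Cfsg.IrrCharacter G // (χ : G → ℂ) 1 = 1} = 1 := by
    rw [Chars.card_linear_irr, hperf]
  have := (Nat.card_eq_one_iff_unique.1 hc).1
  exact congrArg Subtype.val (Subsingleton.elim
    (⟨χ, h⟩ : {χ : Cfsg.IrrCharacter G // (χ : G → ℂ) 1 = 1}) ⟨Chars.trivialIrr G, rfl⟩)

/-- If every non-trivial character vanishes at `g ≠ 1` or has degree divisible by `D > 1`, a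
contradiction with the column orthogonality follows. -/
theorem false_of_columns (hperf : (commutator G).index = 1) {g : G} (hg : g ≠ 1) {D : ℕ}
    (hD : 1 < D) (h : ∀ χ : Cfsg.IrrCharacter G, Cfsg.charDegree (χ : G → ℂ) ≠ 1 →
      (χ : G → ℂ) g = 0 ∨ D ∣ Cfsg.charDegree (χ : G → ℂ)) : False := by
  classical
  cases nonempty_fintype G
  have h0 : ∑ χ : Cfsg.IrrCharacter G, (χ : G → ℂ) 1 * (χ : G → ℂ) g = 0 := by
    rw [Chars.sum_degree_mul_irr, if_neg hg]
  have hex : ∀ χ : Cfsg.IrrCharacter G, χ ≠ Chars.trivialIrr G →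
      ∃ s : ℂ, IsIntegral ℤ s ∧ (χ : G → ℂ) 1 * (χ : G → ℂ) g = (D : ℂ) * s := by
    intro χ hχ
    have hne : Cfsg.charDegree (χ : G → ℂ) ≠ 1 := fun h1 => hχ (eq_trivialIrr hperf χ (by
      rw [(Chars.charDegree_spec χ).2, h1, Nat.cast_one]))
    rcases h χ hne with hz | ⟨k, hk⟩
    · exact ⟨0, isIntegral_zero, by rw [hz, mul_zero, mul_zero]⟩
    · refine ⟨(k : ℂ) * (χ : G → ℂ) g, ?_, ?_⟩
      · exact ((map_natCast (algebraMap ℤ ℂ) k) ▸ isIntegral_algebraMap).mul
          (Chars.irr_isIntegral χ g)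
      · rw [(Chars.charDegree_spec χ).2, hk, Nat.cast_mul, mul_assoc]
  choose! s hs hsval using hex
  rw [← Finset.add_sum_erase _ _ (Finset.mem_univ (Chars.trivialIrr G)),
    Chars.trivialIrr_apply, Chars.trivialIrr_apply, mul_one,
    Finset.sum_congr rfl (fun χ hχ => hsval χ (Finset.ne_of_mem_erase hχ)), ← Finset.mul_sum] at h0
  exact one_add_mul_ne_zero hD
    (IsIntegral.sum _ fun χ hχ => hs χ (Finset.ne_of_mem_erase hχ)) h0

theorem ordProj_dvd_left {a b c r : ℕ} (hr : r.Prime) (hc : c = a * b) (hb : ¬ r ∣ b) :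
    r ^ c.factorization r ∣ a := by
  refine Nat.Coprime.dvd_of_dvd_mul_right
    (Nat.Coprime.pow_left _ ((hr.coprime_iff_not_dvd).2 hb)) ?_
  rw [← hc]
  exact Nat.ordProj_dvd c r

/-- An element of order divisible by `p` has order a power of `p`. -/
theorem prime_eq_of_dvd_orderOf {p f q : ℕ} (hp : p.Prime) (hq : q = p ^ f) (hq5 : 5 ≤ q)
    (hq4 : q % 4 = 1) (hcard : 2 * Nat.card G = q * ((q + 1) * (q - 1)))
    (hdeg : ∀ χ : Cfsg.IrrCharacter G, DegreesPSL q (Cfsg.charDegree (χ : G → ℂ)))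
    (hperf : (commutator G).index = 1) {g : G} (hgp : p ∣ orderOf g) {r : ℕ} (hr : r.Prime)
    (hgr : r ∣ orderOf g) : r = p := by
  by_contra hrp
  have hg1 : g ≠ 1 := fun h => hp.not_dvd_one (by simpa [h] using hgp)
  obtain ⟨o, ho⟩ : ∃ o, 2 * o = q + 1 := ⟨(q + 1) / 2, by omega⟩
  have hoodd : ¬ 2 ∣ o := by omega
  have hG : Nat.card G = (q - 1) * (q * o) := by
    have : 2 * Nat.card G = 2 * ((q - 1) * (q * o)) := by
      rw [hcard, ← ho]; ring
    omega
  have hpq : p ∣ q := hq ▸ dvd_pow_self p (by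
    rintro rfl
    rw [pow_zero] at hq
    omega)
  have hp2 : p ≠ 2 := by
    rintro rfl
    omega
  have hrq : ¬ r ∣ q := fun h => hrp ((Nat.prime_dvd_prime_iff_eq hr hp).1
    (hr.dvd_of_dvd_pow (hq ▸ h)))
  -- the degree `q` vanishes at `g`
  have hSt : ∀ χ : Cfsg.IrrCharacter G, Cfsg.charDegree (χ : G → ℂ) = q →
      (χ : G → ℂ) g = 0 := fun χ hχ => by
    refine apply_eq_zero χ hp ?_ hgp
    rw [hχ]
    have hpo : ¬ p ∣ o := fun h => by
      have h1 : p ∣ q + 1 := ho ▸ Dvd.dvd.mul_left h 2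
      exact hp.not_dvd_one ((Nat.dvd_add_right hpq).1 h1)
    have hpm : ¬ p ∣ q - 1 := fun h => by
      have h1 := Nat.dvd_sub hpq h
      rw [show q - (q - 1) = 1 by omega] at h1
      exact hp.not_dvd_one h1
    refine ordProj_dvd_left hp (show Nat.card G = q * ((q - 1) * o) by rw [hG]; ring) fun h => ?_
    rcases hp.dvd_mul.1 h with h' | h'
    exacts [hpm h', hpo h']
  have hrG : r ∣ Nat.card G := hgr.trans (orderOf_dvd_natCard g)
  rw [hG] at hrG
  rcases hr.dvd_mul.1 hrG with hm | hm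
  · have hro : ¬ r ∣ o := fun h => by
      have h1 : r ∣ q + 1 := ho ▸ Dvd.dvd.mul_left h 2
      have h2 := Nat.dvd_sub h1 hm
      rw [show q + 1 - (q - 1) = 2 by omega] at h2
      obtain rfl := (Nat.prime_dvd_prime_iff_eq hr Nat.prime_two).1 h2
      exact hoodd h
    refine false_of_columns hperf hg1 (D := o) (by omega) fun χ hχ => ?_
    rcases hdeg χ with h | h | h | h | h
    · exact absurd h hχ
    · exact Or.inl (hSt χ h)
    · exact Or.inr ⟨2, by omega⟩
    · refine Or.inl (apply_eq_zero χ hr ?_ hgr)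
      rw [h]
      refine ordProj_dvd_left hr hG fun h' => ?_
      rcases hr.dvd_mul.1 h' with h'' | h''
      exacts [hrq h'', hro h'']
    · exact Or.inr ⟨1, by omega⟩
  · have hro : r ∣ o := (hr.dvd_mul.1 hm).resolve_left hrq
    have hr2 : r ≠ 2 := fun h => hoodd (h ▸ hro)
    have hrm : ¬ r ∣ q - 1 := fun h => by
      have h1 : r ∣ q + 1 := ho ▸ Dvd.dvd.mul_left hro 2
      have h2 := Nat.dvd_sub h1 h
      rw [show q + 1 - (q - 1) = 2 by omega] at h2
      exact hr2 ((Nat.prime_dvd_prime_iff_eq hr Nat.prime_two).1 h2)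
    have hord : r ^ (Nat.card G).factorization r ∣ o := by
      refine ordProj_dvd_left hr (show Nat.card G = o * ((q - 1) * q) by rw [hG]; ring) fun h => ?_
      rcases hr.dvd_mul.1 h with h' | h'
      exacts [hrm h', hrq h']
    refine false_of_columns hperf hg1 (D := q - 1) (by omega) fun χ hχ => ?_
    rcases hdeg χ with h | h | h | h | h
    · exact absurd h hχ
    · exact Or.inl (hSt χ h)
    · refine Or.inl (apply_eq_zero χ hr ?_ hgr)
      rw [h]
      exact hord.trans ⟨2, by omega⟩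
    · exact Or.inr (dvd_of_eq h.symm)
    · refine Or.inl (apply_eq_zero χ hr ?_ hgr)
      exact hord.trans (dvd_of_eq (by omega))

/-- The order of an element commuting with a non-identity `p`-element is a power of `p`. -/
theorem exists_orderOf_eq_pow_of_commute {p f q : ℕ} (hp : p.Prime) (hq : q = p ^ f)
    (hq5 : 5 ≤ q) (hq4 : q % 4 = 1) (hcard : 2 * Nat.card G = q * ((q + 1) * (q - 1)))
    (hdeg : ∀ χ : Cfsg.IrrCharacter G, DegreesPSL q (Cfsg.charDegree (χ : G → ℂ)))
    (hperf : (commutator G).index = 1) {x c : G} {k : ℕ} (hx : orderOf x = p ^ k) (hx1 : x ≠ 1)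
    (hxc : Commute c x) : ∃ j : ℕ, orderOf c = p ^ j := by
  refine ⟨_, Nat.eq_prime_pow_of_unique_prime_dvd (orderOf_pos c).ne' fun {r} hr hrc => ?_⟩
  by_contra hrp
  have hk : k ≠ 0 := fun h => hx1 (orderOf_eq_one_iff.1 (by rw [hx, h, pow_zero]))
  -- `c'` has order `r`
  set c' := c ^ (orderOf c / r) with hc'
  have hc'o : orderOf c' = r := by
    have h0 := (orderOf_pos c).ne'
    have hdiv : orderOf c / r ∣ orderOf c := Nat.div_dvd_of_dvd hrc
    have hne : orderOf c / r ≠ 0 :=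
      (Nat.div_pos (Nat.le_of_dvd (orderOf_pos c) hrc) hr.pos).ne'
    rw [hc', orderOf_pow_of_dvd hne hdiv, Nat.div_div_self hrc h0]
  have hcomm : Commute c' x := hxc.pow_left _
  have hmul : orderOf (c' * x) = r * p ^ k := by
    rw [hcomm.orderOf_mul_eq_mul_orderOf_of_coprime (by
      rw [hc'o, hx]
      exact Nat.Coprime.pow_right _ ((Nat.coprime_primes hr hp).2 hrp)), hc'o, hx]
  exact hrp (prime_eq_of_dvd_orderOf hp hq hq5 hq4 hcard hdeg hperf (g := c' * x)
    (hmul ▸ Dvd.dvd.mul_left (dvd_pow_self p hk) r) hr (hmul ▸ dvd_mul_right r _))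

end Cfsg.Agent.Lib.PSLSqDegrees77
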