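import Cfsg.Agent.Lib.RankSeries.PSLDegrees

/-!
The degrees of the irreducible characters of `PSL₂(q)` for `q ≡ 1 (mod 4)`, and the transfer of the
first column of a character table from one group to another.
-/

set_option autoImplicit false

namespace Cfsg.Agent.Lib.PSLSqDegrees77

open Cfsg.Agent.Lib Cfsg.Agent.Lib.RankSeries Cfsg.Agent.Lib.SL2

attribute [-instance] MonoidHom.instPow MonoidHom.mul instOneMonoidHom MonoidHom.instCommMonoid
  MonoidHom.instInv MonoidHom.instDiv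

universe u v

/-- The possible degrees for `PSL₂(q)`, `q ≡ 1 (mod 4)`. -/
def DegreesPSL (q d : ℕ) : Prop :=
  d = 1 ∨ d = q ∨ d = q + 1 ∨ d = q - 1 ∨ 2 * d = q + 1

theorem charDegrees_PSL_sub {F : Type u} [Field F] [Fintype F] (h4 : Fintype.card F % 4 = 1)
    {d : ℕ}
    (hd : d ∈ Cfsg.charDegrees (Matrix.ProjectiveSpecialLinearGroup (Fin 2) F)) :
    DegreesPSL (Fintype.card F) d := by
  classical
  obtain ⟨χ, rfl⟩ := hd
  obtain ⟨g₀, hg⟩ := exists_elliptic (F := F)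
  have hodd : Odd (Fintype.card F) := Nat.odd_iff.2 (by omega)
  obtain ⟨μ₀, θ₀, a, a', b, b', T⟩ := exists_oddTable hg hodd
  let φ : IrrCharacter (SLtwo F) := Chars.inflate (Subgroup.center (SLtwo F)) χ
  have hdeg : Cfsg.charDegree (φ : SLtwo F → ℂ) =
      Cfsg.charDegree (χ : Matrix.ProjectiveSpecialLinearGroup (Fin 2) F → ℂ) := rfl
  have hm := (Chars.charDegree_spec φ).2
  have hc : (φ : SLtwo F → ℂ) (-1) = (φ : SLtwo F → ℂ) 1 := by
    show (χ : Matrix.ProjectiveSpecialLinearGroup (Fin 2) F → ℂ) _ = (χ : Matrix.ProjectiveSpecialLinearGroup (Fin 2) F → ℂ) _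
    exact congrArg (χ : Matrix.ProjectiveSpecialLinearGroup (Fin 2) F → ℂ)
      ((QuotientGroup.eq_one_iff _).2 (neg_one_mem_center (F := F)))
  have hε : (μ₀ (-1) : ℂ) = 1 := by
    rw [(fixed_apply_neg_one hg hodd T.hμ T.hμ1 T.hθ T.hθ1).1]
    exact Even.neg_one_pow (Nat.even_iff.2 (by omega))
  rw [← hdeg]
  have h1 := (Chars.charDegree_spec φ).1
  unfold DegreesPSL
  rcases T.of_degree φ.2 hm with h | h | h | h | ⟨-, h⟩ | ⟨h, hd⟩
  · omega
  · omega
  · omega
  · omega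
  · omega
  · exfalso
    have h2 : (φ : SLtwo F → ℂ) (-1) = -(φ : SLtwo F → ℂ) 1 := by
      rcases h with h | h <;> rw [h]
      · have := T.b_central 1
        rwa [hε, mul_one, neg_one_mul] at this
      · have := T.b'_central 1
        rwa [hε, mul_one, neg_one_mul] at this
    rw [hc] at h2
    have h3 : (φ : SLtwo F → ℂ) 1 = 0 := by linear_combination h2 / 2
    exact Chars.irr_apply_one_ne_zero φ h3

/-- Equal numbers of irreducible characters of each degree give a degree preserving bijection. -/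
theorem exists_equiv {G : Type u} [Group G] [Finite G] {H : Type v} [Group H] [Finite H]
    (h : ∀ d : ℕ, Nat.card {χ : Cfsg.IrrCharacter G // (χ : G → ℂ) 1 = (d : ℂ)} =
      Nat.card {χ : Cfsg.IrrCharacter H // (χ : H → ℂ) 1 = (d : ℂ)}) :
    ∃ σ : Cfsg.IrrCharacter G ≃ Cfsg.IrrCharacter H,
      ∀ χ, Cfsg.charDegree (σ χ : H → ℂ) = Cfsg.charDegree (χ : G → ℂ) := by
  classical
  have e : ∀ d : ℕ, Nonempty ({χ : Cfsg.IrrCharacter G // Cfsg.charDegree (χ : G → ℂ) = d} ≃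
      {χ : Cfsg.IrrCharacter H // Cfsg.charDegree (χ : H → ℂ) = d}) := by
    intro d
    have hG : ∀ χ : Cfsg.IrrCharacter G,
        Cfsg.charDegree (χ : G → ℂ) = d ↔ (χ : G → ℂ) 1 = (d : ℂ) := fun χ => by
      rw [(Chars.charDegree_spec χ).2, Nat.cast_inj]
    have hH : ∀ χ : Cfsg.IrrCharacter H,
        Cfsg.charDegree (χ : H → ℂ) = d ↔ (χ : H → ℂ) 1 = (d : ℂ) := fun χ => by
      rw [(Chars.charDegree_spec χ).2, Nat.cast_inj]
    exact ⟨((Equiv.subtypeEquivRight hG).trans ((Finite.card_eq).1 (h d)).some).trans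
      (Equiv.subtypeEquivRight hH).symm⟩
  let σ : Cfsg.IrrCharacter G ≃ Cfsg.IrrCharacter H := Equiv.ofFiberEquiv fun d => (e d).some
  exact ⟨σ, fun χ => Equiv.ofFiberEquiv_map (f := fun χ : Cfsg.IrrCharacter G => Cfsg.charDegree (χ : G → ℂ))
    (g := fun χ : Cfsg.IrrCharacter H => Cfsg.charDegree (χ : H → ℂ)) (fun d => (e d).some) χ⟩

theorem data_of_equiv {G : Type u} [Group G] [Finite G] {H : Type v} [Group H] [Finite H]
    (σ : Cfsg.IrrCharacter G ≃ Cfsg.IrrCharacter H)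
    (hσ : ∀ χ, Cfsg.charDegree (σ χ : H → ℂ) = Cfsg.charDegree (χ : G → ℂ)) :
    Nat.card G = Nat.card H ∧ Cfsg.charDegrees G = Cfsg.charDegrees H ∧
      (commutator G).index = (commutator H).index := by
  classical
  have hdeg : ∀ χ, (σ χ : H → ℂ) 1 = (χ : G → ℂ) 1 := fun χ => by
    rw [(Chars.charDegree_spec _).2, (Chars.charDegree_spec χ).2, hσ]
  cases nonempty_fintype G
  cases nonempty_fintype H
  refine ⟨?_, ?_, ?_⟩
  · refine Nat.cast_injective (R := ℂ) ?_
    rw [← Chars.sum_degree_sq, ← Chars.sum_degree_sq]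
    exact Fintype.sum_equiv σ _ _ fun χ => by rw [hdeg]
  · ext d
    constructor
    · rintro ⟨χ, rfl⟩
      exact ⟨σ χ, hσ χ⟩
    · rintro ⟨χ, rfl⟩
      exact ⟨σ.symm χ, by rw [← hσ, Equiv.apply_symm_apply]⟩
  · rw [← Chars.card_linear_irr, ← Chars.card_linear_irr]
    exact Nat.card_congr (σ.subtypeEquiv fun χ => by rw [hdeg])

end Cfsg.Agent.Lib.PSLSqDegrees77
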