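import Cfsg.Agent.Lib.PSLSqDegrees77.Recognise
import Cfsg.Agent.Lib.PSLSqDegrees77.Centralizer
import Cfsg.Agent.Lib.SL2.Dickson

/-!
A group of order `q(q²-1)/2` with `q = p² ≡ 1 (mod 4)` in which the centraliser of a non-identity
`p`-element is a `p`-group is `PSL₂(q)`.
-/

set_option autoImplicit false

namespace Cfsg.Agent.Lib.PSLSqDegrees77

open Cfsg.Agent.Lib

theorem sq_mod_four {p : ℕ} (hp : p.Prime) (hp2 : p ≠ 2) : p ^ 2 % 4 = 1 ∧ 9 ≤ p ^ 2 := by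
  obtain ⟨k, rfl⟩ := hp.odd_of_ne_two hp2
  have := hp.two_le
  refine ⟨?_, by nlinarith [show 1 ≤ k by omega]⟩
  rw [show (2 * k + 1) ^ 2 = 4 * (k * k + k) + 1 by ring]
  omega

theorem nonempty_mulEquiv_of_centralizers {G : Type*} [Group G] [Finite G] {F : Type*} [Field F]
    [Fintype F] {p : ℕ} (hp : p.Prime) (hp2 : p ≠ 2) (hF : Fintype.card F = p ^ 2)
    (hcard : 2 * Nat.card G = p ^ 2 * ((p ^ 2 + 1) * (p ^ 2 - 1)))
    (hC : ∀ x c : G, ∀ k : ℕ, orderOf x = p ^ k → x ≠ 1 → Commute c x →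
      ∃ j : ℕ, orderOf c = p ^ j) :
    Nonempty (G ≃* Matrix.ProjectiveSpecialLinearGroup (Fin 2) F) := by
  haveI := Fact.mk hp
  obtain ⟨h4, h9⟩ := sq_mod_four hp hp2
  obtain ⟨e, he⟩ : ∃ e, p ^ 2 = 2 * e + 1 := ⟨(p ^ 2 - 1) / 2, by omega⟩
  have hG : Nat.card G = 2 * (p ^ 2 * e * (e + 1)) := by
    have : 2 * Nat.card G = 2 * (2 * (p ^ 2 * e * (e + 1))) := by
      rw [hcard, show p ^ 2 - 1 = 2 * e by omega, show p ^ 2 + 1 = 2 * (e + 1) by omega]
      ring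
    omega
  have hS : ∀ P : Sylow p G, Nat.card (P : Subgroup G) = p ^ 2 := by
    intro P
    have hne : ¬ p ∣ 2 * (e * (e + 1)) := fun h => by
      have h1 : p ∣ p ^ 2 := dvd_pow_self p two_ne_zero
      rcases hp.dvd_mul.1 h with h2 | h2
      · exact hp2 ((Nat.prime_dvd_prime_iff_eq hp Nat.prime_two).1 h2)
      rcases hp.dvd_mul.1 h2 with h3 | h3
      · exact hp.not_dvd_one ((Nat.dvd_add_right (h3.mul_left 2)).1 (he ▸ h1))
      · have h5 : p ∣ p ^ 2 + 1 := by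
          rw [show p ^ 2 + 1 = 2 * (e + 1) by omega]; exact h3.mul_left 2
        exact hp.not_dvd_one ((Nat.dvd_add_right h1).1 h5)
    rw [P.card_eq_multiplicity, hG,
      show 2 * (p ^ 2 * e * (e + 1)) = p ^ 2 * (2 * (e * (e + 1))) by ring,
      Nat.factorization_mul (pow_ne_zero _ hp.ne_zero) (fun h => hne (by rw [h]; exact dvd_zero p)),
      Finsupp.add_apply, Nat.factorization_eq_zero_of_not_dvd hne, hp.factorization_pow,
      Finsupp.single_eq_same, add_zero]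
  have hH : TIHyp G p (p ^ 2) e (e + 1) := by
    refine ⟨by omega, Nat.odd_iff.2 (by omega), ⟨he, rfl⟩, hG, hS, fun P x hx hx1 => ?_⟩
    refine P.is_maximal' ?_ ?_
    · obtain ⟨k, hk⟩ := IsPGroup.iff_orderOf.1 P.isPGroup' ⟨x, hx⟩
      rw [Subgroup.orderOf_mk] at hk
      refine IsPGroup.iff_orderOf.2 fun c => ?_
      obtain ⟨j, hj⟩ := hC x c k hk hx1 (Subgroup.mem_centralizer_singleton_iff.1 c.2)
      exact ⟨j, by rw [← Subgroup.orderOf_coe, hj]⟩
    · intro y hy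
      haveI : IsMulCommutative (P : Subgroup G) :=
        IsPGroup.isMulCommutative_of_card_eq_prime_sq (p := p) (hS P)
      exact Subgroup.mem_centralizer_singleton_iff.2
        (congrArg Subtype.val (IsMulCommutative.is_comm.comm (⟨y, hy⟩ : (P : Subgroup G)) ⟨x, hx⟩))
  obtain ⟨K, iK, iF, hK, ⟨φ⟩⟩ := hH.exists_psl_mulEquiv
  exact ⟨φ.trans (SL2.pslCongr (FiniteField.ringEquivOfCardEq (hK.trans hF.symm)))⟩

end Cfsg.Agent.Lib.PSLSqDegrees77
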